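import Groth.Agent.SkewMultLib.Point
import Groth.Agent.AVVanishLib.PhiSurj
import Groth.Agent.RpushLib.BCMap
import Groth.Agent.SurfExtLib.Bidual
import Groth.Agent.CohCmpLib.FibreRowsBC
import Groth.Agent.CohCmpLib.LineBundle
import Groth.Agent.CohCmpLib.HomLift
import Groth.Agent.CohCmpLib.PullZero
import Groth.Agent.ResBdyLib.Good
import Groth.Agent.FormalCohLib.Counit
import Groth.Agent.MultSecLib.Basic
import Groth.Agent.S7785

/-!
# Multiplication of sections from global generation of the skew Pontrjagin product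
-/

set_option autoImplicit false
set_option linter.style.haveILetI false
set_option linter.unusedSectionVars false
set_option backward.isDefEq.respectTransparency false
set_option backward.isDefEq.respectTransparency.types false
set_option maxHeartbeats 1000000

noncomputable section

universe u

open CategoryTheory CategoryTheory.Limits MonoidalCategory CartesianMonoidalCategory MonObj GrpObj AlgebraicGeometry
open TopologicalSpace Opposite
open KFlatLib (pb pf puSec puSecLE tens shTm)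

namespace SkewMultLib

section Gen

variable {X Y Z : Scheme.{u}}

/-- An inverse image of an inverse image, on global sections. -/
theorem exists_pbComp (σ : X ⟶ Y) (g : Y ⟶ Z) {h : X ⟶ Z} (e : σ ≫ g = h) (M : Z.Modules) :
    ∃ φ : pb σ (pb g M) ≅ pb h M, ∀ m : Γ(M, (⊤ : Z.Opens)),
      φ.hom.app ⊤ (puSec σ (puSec g m)) = (puSec h m : Γ(pb h M, (⊤ : X.Opens))) := by
  subst e
  exact ⟨(Scheme.Modules.pullbackComp σ g).app M, fun m => CohCmpLib.pullbackComp_puSec σ g M m⟩

/-- An inverse image of an inverse image by a retraction, on global sections. -/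
theorem exists_pbRetr (σ : X ⟶ Y) (g : Y ⟶ X) (e : σ ≫ g = 𝟙 X) (M : X.Modules) :
    ∃ φ : pb σ (pb g M) ≅ M, ∀ m : Γ(M, (⊤ : X.Opens)),
      φ.hom.app ⊤ (puSec σ (puSec g m)) = m := by
  obtain ⟨φ, hφ⟩ := exists_pbComp σ g e M
  refine ⟨φ ≪≫ (Scheme.Modules.pullbackId X).app M, fun m => ?_⟩
  refine (congrArg (((Scheme.Modules.pullbackId X).hom.app M).app ⊤) (hφ m)).trans ?_
  have h := CohCmpLib.pullbackId_puSecLE M (le_refl (⊤ : X.Opens)) m
  simpa [KFlatLib.puSecLE_apply] using h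

end Gen

variable {k : Type u} [Field k] [IsAlgClosed k] {A : Over (Spec (CommRingCat.of k))} [GrpObj A]
  [IsProper A.hom] [Smooth A.hom] [GeometricallyConnected A.hom]

/-- The kernel of the skew Pontrjagin product. -/
abbrev Gm (E F : A.left.Modules) : (A ⊗ A).left.Modules :=
  CohB1.tensorMod (pb μ[A].left E) (pb (snd A A).left F)

/-- Translation by a point. -/
abbrev tr (x : 𝟙_ (Over (Spec (CommRingCat.of k))) ⟶ A) : A.left ⟶ A.left :=
  (𝟙 A * (toUnit A ≫ x)).left

/-- The slice over a point, and its composites with the multiplication and the projection. -/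
theorem slice_comp (x : 𝟙_ (Over (Spec (CommRingCat.of k))) ⟶ A) :
    (AVVanishLib.jp x).left ≫ μ[A].left = tr x ∧ (AVVanishLib.jp x).left ≫ (snd A A).left = 𝟙 A.left := by
  haveI := AbSchLib.geometricallyReduced_of_smooth A.hom
  haveI : IsCommMonObj A := Groth.Agent.S7785.result A
  refine ⟨?_, ?_⟩
  · rw [← Over.comp_left, ← Hom.mul_def, mul_comm]
  · rw [← Over.comp_left, lift_snd, Over.id_left]

/-- The kernel on a slice. -/
theorem exists_sliceIso (E F : A.left.Modules) (x : 𝟙_ (Over (Spec (CommRingCat.of k))) ⟶ A) :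
    ∃ Φ : pb (AVVanishLib.jp x).left (Gm E F) ≅ CohB1.tensorMod (pb (tr x) E) F,
      ∀ (a : Γ(E, (⊤ : A.left.Opens))) (b : Γ(F, (⊤ : A.left.Opens))),
        Φ.hom.app ⊤ (puSec (AVVanishLib.jp x).left
          (shTm (M := pb μ[A].left E) (N := pb (snd A A).left F) (U := (⊤ : (A ⊗ A).left.Opens))
            (puSec μ[A].left a) (puSec (snd A A).left b))) =
        shTm (M := pb (tr x) E) (N := F) (U := (⊤ : A.left.Opens)) (puSec (tr x) a) b := by
  let σ := (AVVanishLib.jp x).left
  obtain ⟨e₁, h₁⟩ := exists_pbComp σ μ[A].left (slice_comp x).1 E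
  obtain ⟨e₂, h₂⟩ := exists_pbRetr σ (snd A A).left (slice_comp x).2 F
  haveI := KFlatLib.isIso_pullθ σ (pb μ[A].left E) (pb (snd A A).left F)
  let P := pb σ (pb μ[A].left E)
  let Q := pb σ (pb (snd A A).left F)
  let a₁ : tens P Q ≅ tens (pb (tr x) E) Q := ((DCoh.tensorBi (X := A.left)).mapIso e₁).app Q
  let a₂ : tens (pb (tr x) E) Q ≅ tens (pb (tr x) E) F :=
    ((DCoh.tensorBi (X := A.left)).obj (pb (tr x) E)).mapIso e₂
  refine ⟨asIso (KFlatLib.pullθ σ (pb μ[A].left E) (pb (snd A A).left F)) ≪≫ a₁ ≪≫ a₂, fun a b => ?_⟩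
  change a₂.hom.app ⊤ (a₁.hom.app ⊤ ((KFlatLib.pullθ σ (pb μ[A].left E) (pb (snd A A).left F)).app ⊤ _)) = _
  refine (congrArg (a₂.hom.app ⊤) (congrArg (a₁.hom.app ⊤)
    (KFlatLib.pullθ_puSec σ (pb μ[A].left E) (pb (snd A A).left F) (U := ⊤) _ _))).trans ?_
  refine (congrArg (a₂.hom.app ⊤) (KFlatLib.tensorBi_map₁_shTm e₁.hom Q (U := ⊤) _ _)).trans ?_
  refine (KFlatLib.tensorBi_map₂_shTm (pb (tr x) E) e₂.hom (U := ⊤) _ _).trans ?_
  exact congr_arg₂ shTm (h₁ a) (h₂ b)

theorem isPullback_mul :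
    IsPullback (μ[A] : A ⊗ A ⟶ A).left (snd A A).left A.hom A.hom := by
  have hμ : (μ[A] : A ⊗ A ⟶ A) = fst A A * snd A A := by
    rw [Hom.mul_def, lift_fst_snd, Category.id_comp]
  let σ : A ⊗ A ≅ A ⊗ A :=
    { hom := lift (μ[A]) (snd A A)
      inv := lift (fst A A * (snd A A)⁻¹) (snd A A)
      hom_inv_id := by
        rw [comp_lift, MonObj.comp_mul, GrpObj.comp_inv, lift_fst, lift_snd, hμ, _root_.mul_inv_cancel_right,
          lift_fst_snd]
      inv_hom_id := by
        rw [comp_lift, lift_snd, hμ, MonObj.comp_mul, lift_fst, lift_snd, inv_mul_cancel_right, lift_fst_snd] }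
  exact IsPullback.of_iso_pullback ⟨(Over.w (μ[A] : A ⊗ A ⟶ A)).trans (Over.w (snd A A)).symm⟩
    ((Over.forget _).mapIso σ) (congrArg Over.Hom.left (lift_fst (μ[A]) (snd A A)))
    (congrArg Over.Hom.left (lift_snd (μ[A]) (snd A A)))

theorem isPullback_slice (x : 𝟙_ (Over (Spec (CommRingCat.of k))) ⟶ A) :
    IsPullback (AVVanishLib.jp x).left A.hom (fst A A).left x.left := by
  have h0 : IsPullback (snd A A).left (fst A A).left A.hom A.hom :=
    (IsPullback.of_hasPullback A.hom A.hom).flip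
  refine IsPullback.of_right (h₁₂ := (snd A A).left) (h₂₂ := A.hom) (v₁₃ := A.hom) ?_ ?_ h0
  · rw [← Over.comp_left, lift_snd, Over.id_left, show x.left ≫ A.hom = 𝟙 (Spec (CommRingCat.of k)) from Over.w x]
    exact IsPullback.of_horiz_isIso ⟨(Category.id_comp _).trans (Category.comp_id _).symm⟩
  · rw [← Over.comp_left, lift_fst, Over.comp_left, Over.toUnit_left]

/-- Global sections of the kernel are sums of products. -/
theorem exists_sum (E F : A.left.Modules) (hE : FlatMod.IsFinLocFree E) (hF : FlatMod.IsFinLocFree F)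
    (w : Γ(Gm E F, (⊤ : (A ⊗ A).left.Opens))) :
    ∃ (n : ℕ) (v : Fin n → Γ(E, (⊤ : A.left.Opens))) (m : Fin n → Γ(F, (⊤ : A.left.Opens))),
      w = ∑ i, shTm (M := pb μ[A].left E) (N := pb (snd A A).left F) (U := (⊤ : (A ⊗ A).left.Opens))
        (puSec μ[A].left (v i)) (puSec (snd A A).left (m i)) := by
  have hEc := LocSuppLib.isCoh_of_isFinLocFree hE
  haveI := hEc.1
  haveI : Coh.IsQCoh ((Scheme.Modules.pushforward A.hom).obj E) := QCohLib.isQCoh_pushforward A.hom E
  have H := isPullback_mul (A := A)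
  haveI : IsIso (CohBC.bc0 A.hom A.hom (snd A A).left μ[A].left H.w E) := by
    have h := RpushLib.isIso_bcMap_of H E fun US UT hUS hUT hg => RpushLib.bijective_bc_zero H E hUS hUT hg
    exact h
  let β := asIso (CohBC.bc0 A.hom A.hom (snd A A).left μ[A].left H.w E)
  obtain ⟨n, e, he⟩ := exists_frame_top k (pf A.hom E) (FormalCohLib.isCoh_push_proper A.hom hEc)
  have hψ : ProjFormLib.IsFrame (pf (snd A A).left (pb μ[A].left E)) (U := (⊤ : A.left.Opens))
      fun i => β.hom.app ⊤ (puSec A.hom (e i)) := (he.pull A.hom).map β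
  have hψv : ∀ i, β.hom.app ⊤ (puSec A.hom (e i)) =
      (puSec μ[A].left (show Γ(E, (⊤ : A.left.Opens)) from e i) :
        Γ(pb μ[A].left E, (⊤ : (A ⊗ A).left.Opens))) := fun i => by
    refine (CohCmpLib.bc0_puSec H.w E (e i)).trans ?_
    rw [KFlatLib.puSecLE_apply]
    exact congr($((pb μ[A].left E).presheaf.map_id _) _)
  let s := (snd A A).left
  let E' := pb μ[A].left E
  haveI := ProjFormLib.isIso_projApp s hF E'
  let sw := KFlatLib.tensSwap E' (pb s F)
  let u : Γ(pf s (tens (pb s F) E'), (⊤ : A.left.Opens)) := sw.inv.app ⊤ w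
  obtain ⟨t, ht⟩ := ((ConcreteCategory.isIso_iff_bijective ((ProjFormLib.projApp s F E').app ⊤)).1 inferInstance).2 u
  obtain ⟨m, hm⟩ := (ProjFormLib.phi_bijective F hψ (le_refl (⊤ : A.left.Opens))).2
    ((KFlatLib.tensSwap (pf s E') F).hom.app ⊤ t)
  refine ⟨n, fun i => e i, m, ?_⟩
  have hres : ∀ i, ProjFormLib.res (pf s E') (le_refl (⊤ : A.left.Opens)) (β.hom.app ⊤ (puSec A.hom (e i))) =
      β.hom.app ⊤ (puSec A.hom (e i)) := fun i => congr($((pf s E').presheaf.map_id _) _)
  have ht' : t = ∑ i, shTm (M := F) (N := pf s E') (m i) (β.hom.app ⊤ (puSec A.hom (e i))) := by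
    apply ((ConcreteCategory.isIso_iff_bijective ((KFlatLib.tensSwap (pf s E') F).hom.app ⊤)).1 inferInstance).1
    refine hm.symm.trans (Eq.symm ((map_sum _ _ _).trans (Finset.sum_congr rfl fun i _ => ?_)))
    exact (SurfExtLib.tensSwap_shTm _ _ _ _).trans (congrArg (shTm · _) (hres i).symm)
  have hu : u = ∑ i, shTm (M := pb s F) (N := E') (U := (⊤ : (A ⊗ A).left.Opens)) (puSec s (m i))
      (puSec μ[A].left (show Γ(E, (⊤ : A.left.Opens)) from e i)) := by
    rw [← ht, ht', map_sum]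
    exact Finset.sum_congr rfl fun i _ => (ProjFormLib.projApp_shTm s F E' _ _).trans (congrArg (shTm _) (hψv i))
  have hw : w = sw.hom.app ⊤ u := (congr(Scheme.Modules.Hom.app $sw.inv_hom_id ⊤ w)).symm
  rw [hw, hu, map_sum]
  exact Finset.sum_congr rfl fun i _ => SurfExtLib.tensSwap_shTm _ _ _ _

/-- **Multiplication is surjective when the skew Pontrjagin product is globally generated.** -/
theorem mult_translate (E F : A.left.Modules) (hE : FlatMod.IsFinLocFree E) (hF : FlatMod.IsFinLocFree F)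
    (hgg : Curv2.IsGloballyGenerated ((Scheme.Modules.pushforward (fst A A).left).obj (Gm E F)))
    (hvan : ∀ x : 𝟙_ (Over (Spec (CommRingCat.of k))) ⟶ A,
      Subsingleton (Coh.HH A.left (CohB1.tensorMod (pb (tr x) E) F) 1))
    (x : 𝟙_ (Over (Spec (CommRingCat.of k))) ⟶ A) : MultSecLib.Mult (pb (tr x) E) F := by
  let σ := (AVVanishLib.jp x).left
  let p := (fst A A).left
  haveI : IsProper p := inferInstanceAs (IsProper (pullback.fst A.hom A.hom))
  haveI : Flat p := inferInstanceAs (Flat (pullback.fst A.hom A.hom))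
  haveI : LocallyOfFinitePresentation p := inferInstanceAs (LocallyOfFinitePresentation (pullback.fst A.hom A.hom))
  obtain ⟨hQ, hfp, hfl⟩ := CohCmpLib.locFree_hyps p (ResBdyLib.isFinLocFree_tens
    (CohCmpLib.isFinLocFree_pb μ[A].left hE) (CohCmpLib.isFinLocFree_pb (snd A A).left hF))
  haveI : Coh.IsQCoh (Gm E F) := hQ
  let x₀ : Spec (CommRingCat.of k) ⟶ A.left := x.left
  have hx : x₀ ≫ A.hom = 𝟙 (Spec (CommRingCat.of k)) := Over.w x
  have H : IsPullback σ A.hom p x₀ := isPullback_slice x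
  haveI : Subsingleton ↥(Spec (CommRingCat.of k)) := inferInstanceAs (Subsingleton (PrimeSpectrum k))
  have hfib : ∀ z : ↥(Spec (CommRingCat.of k)), Subsingleton (CohIII.fiberH p (Gm E F) (x₀ z) 1) := fun z => by
    haveI : IsProper x₀ := by
      haveI : IsProper (x₀ ≫ A.hom) := by rw [hx]; infer_instance
      exact IsProper.of_comp x₀ A.hom
    have hy : IsClosed ({x₀ z} : Set A.left) := by
      have := x₀.isClosedMap {z} (isClosed_discrete _)
      rwa [Set.image_singleton] at this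
    refine (AVVanishLib.subsingleton_fiberH_fst_iff (Gm E F) (x₀ z) hy 1).2 ?_
    obtain ⟨Φ, -⟩ := exists_sliceIso E F (AVVanishLib.ptOf (x₀ z) hy)
    exact SerreVanLib.subsingleton_HH_of_iso Φ 1 (hvan _)
  haveI : IsIso (CohBC.bc0 p x₀ A.hom σ H.w (Gm E F)) := CohCmpLib.isIso_bc0_of_fibre_one hfp hfl H hfib
  let bc := asIso (CohBC.bc0 p x₀ A.hom σ H.w (Gm E F))
  obtain ⟨Φ, hΦ⟩ := exists_sliceIso E F x
  have hsurj : Function.Surjective x₀.appTop := fun c => ⟨A.hom.appTop c,
    congr(Scheme.Hom.appTop $hx c)⟩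
  intro t
  obtain ⟨w, hwt⟩ := ((ConcreteCategory.isIso_iff_bijective (Φ.hom.app ⊤)).1 inferInstance).2 t
  obtain ⟨r, hr⟩ := ((ConcreteCategory.isIso_iff_bijective
    (bc.hom.app ⊤)).1 inferInstance).2
      (show Γ(pf A.hom (pb σ (Gm E F)), (⊤ : (Spec (CommRingCat.of k)).Opens)) from w)
  obtain ⟨s, hs⟩ := exists_puSec_of_gg x₀ default hsurj hgg r
  have hw : w = puSec σ (show Γ(Gm E F, (⊤ : (A ⊗ A).left.Opens)) from s) := by
    refine hr.symm.trans ((congrArg _ hs.symm).trans ((CohCmpLib.bc0_puSec H.w (Gm E F) s).trans ?_))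
    rw [KFlatLib.puSecLE_apply]
    exact congr($((pb σ (Gm E F)).presheaf.map_id _) _)
  obtain ⟨n, v, m, hsum⟩ := exists_sum E F hE hF s
  have key : t = ∑ i, shTm (M := pb (tr x) E) (N := F) (U := (⊤ : A.left.Opens)) (puSec (tr x) (v i)) (m i) := by
    rw [← hwt, hw, hsum]
    refine (congrArg (Φ.hom.app ⊤) (map_sum _ _ _)).trans ((map_sum _ _ _).trans ?_)
    exact Finset.sum_congr rfl fun i _ => hΦ (v i) (m i)
  rw [key]
  clear key hsum
  induction n with
  | zero => exact ⟨0, (MultSecLib.shApp_zero _ _ _).trans (Finset.sum_empty (f := fun i : Fin 0 => _)).symm⟩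
  | succ n ih =>
    obtain ⟨q, hq⟩ := ih (fun i => v i.succ) (fun i => m i.succ)
    refine ⟨KFlatLib.tm (DCoh.toP.obj (pb (tr x) E) : KFlatLib.PM A.left.presheaf)
      (DCoh.toP.obj F : KFlatLib.PM A.left.presheaf) (U := (⊤ : A.left.Opens))
      (show Γ(pb (tr x) E, (⊤ : A.left.Opens)) from puSec (tr x) (v 0)) (m 0) + q, ?_⟩
    rw [KFlatLib.shApp_add, hq, Fin.sum_univ_succ]
    rfl

end SkewMultLib
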