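import Groth.Agent.CohCmpLib.UnitFibre
import Groth.Agent.CohCmpLib.CanonApps
import Groth.Agent.ProjFormLib.Proj
import Groth.Agent.MiscFlat6.TensorGG
import Groth.Agent.KFlatLib.AffinePull

/-!
# Sections of globally generated modules at a point, and global frames over a field
-/

set_option autoImplicit false
set_option linter.style.haveILetI false
set_option linter.unusedSectionVars false
set_option backward.isDefEq.respectTransparency false
set_option backward.isDefEq.respectTransparency.types false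

noncomputable section

universe u

open CategoryTheory CategoryTheory.Limits AlgebraicGeometry TopologicalSpace Opposite
open scoped TensorProduct
open KFlatLib (pb pf puSec tens shTm)
open ProjFormLib (ger res ger_res ger_smul ger_map exists_ger IsFrame)

namespace SkewMultLib

variable {X Y Z : Scheme.{u}}

/-- The stalks of a globally generated module are spanned by global sections. -/
theorem span_ger_of_gg {M : X.Modules} (h : Curv2.IsGloballyGenerated M) (y : X) :
    Submodule.span (X.presheaf.stalk y) (Set.range fun s : Γ(M, ⊤) => ger M y (Opens.mem_top y) s) = ⊤ := by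
  obtain ⟨ι, p, hp⟩ := h
  let S := Submodule.span (X.presheaf.stalk y) (Set.range fun s : Γ(M, ⊤) => ger M y (Opens.mem_top y) s)
  change S = ⊤
  rw [← Submodule.ker_mkQ S, LinearMap.ker_eq_top]
  let q : ((DerSch.stalkFunctor X y).obj M : ModuleCat (X.presheaf.stalk y)) ⟶ ModuleCat.of _ (_ ⧸ S) :=
    ModuleCat.ofHom S.mkQ
  have key : (DerSch.stalkFunctor X y).map p ≫ q = 0 := by
    refine (isColimitOfPreserves (DerSch.stalkFunctor X y)
      (coproductIsCoproduct fun _ : ι => (Coh.structureModule X))).hom_ext fun i => ?_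
    rw [comp_zero]
    obtain ⟨i⟩ := i
    refine ModuleCat.hom_ext (LinearMap.ext fun a => ?_)
    obtain ⟨W, hW, s, rfl⟩ := exists_ger _ y a
    refine (Submodule.Quotient.mk_eq_zero _).2 ?_
    let j : Coh.structureModule X ⟶ M := Sigma.ι (fun _ : ι => Coh.structureModule X) i ≫ p
    have e : ger M y hW (j.app W s) ∈ S := by
      let one : Γ(Coh.structureModule X, (⊤ : X.Opens)) := (1 : Γ(X, ⊤))
      have h1 : s = (show Γ(X, W) from s) • res (Coh.structureModule X) le_top one := by
        change (show Γ(X, W) from s) = (show Γ(X, W) from s) * X.presheaf.map (homOfLE le_top).op (1 : Γ(X, ⊤))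
        exact (mul_one (show Γ(X, W) from s)).symm.trans
          (congrArg _ (map_one (X.presheaf.map (homOfLE le_top).op).hom).symm)
      rw [h1, Scheme.Modules.Hom.app_smul, ger_smul, QCohLib.app_map, ger_res]
      exact S.smul_mem _ (Submodule.subset_span ⟨j.app ⊤ one, rfl⟩)
    refine (congrArg (· ∈ S) ?_).mpr e
    exact (congrArg ((DerSch.stalkFunctor X y).map p).hom (ger_map _ y hW s)).trans (ger_map p y hW _)
  haveI : Epi ((DerSch.stalkFunctor X y).map p) := inferInstance
  exact congr(ModuleCat.Hom.hom $((cancel_epi ((DerSch.stalkFunctor X y).map p)).1 (key.trans comp_zero.symm)))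

/-- Over a point, the sections of the inverse image of a globally generated module all come from global sections. -/
theorem exists_puSec_of_gg (g : Z ⟶ Y) [Subsingleton Z] (z : Z) (hs : Function.Surjective g.appTop)
    {M : Y.Modules} (h : Curv2.IsGloballyGenerated M) (w : Γ(pb g M, (⊤ : Z.Opens))) :
    ∃ s : Γ(M, (⊤ : Y.Opens)), (puSec g s : Γ(pb g M, (⊤ : Z.Opens))) = w := by
  letI := (g.stalkMap z).hom.toAlgebra
  let R := Y.presheaf.stalk (g z)
  let L := ((KFlatLib.stalkPullIso g z).app M).symm.toLinearEquiv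
  let gM := fun s : Γ(M, (⊤ : Y.Opens)) => ger M (g z) (Opens.mem_top _) s
  have htop : ∀ W : Z.Opens, z ∈ W → W = ⊤ := fun W hW => top_le_iff.1 fun z' _ => by
    rwa [Subsingleton.elim z' z]
  have hA : ∀ a : Z.presheaf.stalk z, ∃ c : Γ(Y, ⊤),
      algebraMap R (Z.presheaf.stalk z) (Y.presheaf.germ ⊤ (g z) trivial c) = a := by
    intro a
    obtain ⟨W, hW, t, rfl⟩ := Z.presheaf.germ_exist a
    obtain rfl := htop W hW
    obtain ⟨c, rfl⟩ := hs t
    exact ⟨c, Scheme.Hom.germ_stalkMap_apply g ⊤ z _ c⟩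
  have hB : ∀ b ∈ Submodule.span R (Set.range gM), ∃ s : Γ(M, (⊤ : Y.Opens)),
      (1 : Z.presheaf.stalk z) ⊗ₜ[R] b = (1 : Z.presheaf.stalk z) ⊗ₜ[R] gM s := by
    intro b hb
    induction hb using Submodule.span_induction with
    | mem m hm =>
      obtain ⟨s, rfl⟩ := hm
      exact ⟨s, rfl⟩
    | zero => exact ⟨0, congrArg _ (map_zero (M.presheaf.germ ⊤ (g z) trivial).hom).symm⟩
    | add a b _ _ h1 h2 =>
      obtain ⟨s, hs'⟩ := h1
      obtain ⟨t, ht⟩ := h2
      exact ⟨s + t, by rw [TensorProduct.tmul_add, hs', ht, ← TensorProduct.tmul_add]; exact congrArg _ (map_add (M.presheaf.germ ⊤ (g z) trivial).hom s t).symm⟩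
    | smul r a _ h1 =>
      obtain ⟨s, hs'⟩ := h1
      obtain ⟨c, hc⟩ := hA (algebraMap R _ r)
      refine ⟨c • s, ?_⟩
      have e : ∀ (r : R) (x : (DerSch.stalkFunctor Y (g z)).obj M),
          (1 : Z.presheaf.stalk z) ⊗ₜ[R] (r • x) = algebraMap R (Z.presheaf.stalk z) r • ((1 : Z.presheaf.stalk z) ⊗ₜ[R] x) :=
        fun r x => by rw [TensorProduct.tmul_smul, algebraMap_smul]
      rw [e, hs', ← hc, ← e]
      exact congrArg _ (ger_smul (X := Y) (M := M) (g z) (Opens.mem_top (g z)) c s).symm
  have hT : ∀ t : Z.presheaf.stalk z ⊗[R] ((DerSch.stalkFunctor Y (g z)).obj M),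
      ∃ s : Γ(M, (⊤ : Y.Opens)), t = (1 : Z.presheaf.stalk z) ⊗ₜ[R] gM s := by
    intro t
    induction t using TensorProduct.induction_on with
    | zero =>
      exact ⟨0, ((TensorProduct.tmul_zero _ _).symm.trans (congrArg _ (map_zero (M.presheaf.germ ⊤ (g z) trivial).hom).symm))⟩
    | tmul a b =>
      obtain ⟨c, rfl⟩ := hA a
      rw [← mul_one (algebraMap R _ _), ← smul_eq_mul, algebraMap_smul, TensorProduct.smul_tmul]
      exact hB _ (by rw [span_ger_of_gg h (g z)]; trivial)
    | add a b h1 h2 =>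
      obtain ⟨s, hs'⟩ := h1
      obtain ⟨t, ht⟩ := h2
      exact ⟨s + t, by rw [hs', ht, ← TensorProduct.tmul_add]; exact congrArg _ (map_add (M.presheaf.germ ⊤ (g z) trivial).hom s t).symm⟩
  obtain ⟨t, ht⟩ := L.surjective (ger (pb g M) z (Opens.mem_top z) w)
  obtain ⟨s, rfl⟩ := hT t
  refine ⟨s, ProjFormLib.section_ext _ _ fun y hy => ?_⟩
  obtain rfl := Subsingleton.elim y z
  exact (KFlatLib.stalkPullInv_germ g M y (Opens.mem_top (g y)) s).symm.trans ht

/-- A coherent module over a field has a global frame. -/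
theorem exists_frame_top (k : Type u) [Field k] (N : (Spec (CommRingCat.of k)).Modules) (hN : Coh.IsCoh N) :
    ∃ (n : ℕ) (e : Fin n → Γ(N, ⊤)), IsFrame N e := by
  haveI := hN.1
  obtain ⟨n, ⟨φ⟩⟩ := CohCmpLib.exists_freeMod_iso_of_field k N hN.2
  obtain ⟨t, ht⟩ := ProjFormLib.isFrame_freeMod (Spec (CommRingCat.of k)) n
  exact ⟨n, _, ht.map φ.symm⟩

end SkewMultLib
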